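import Groth.Prelude.Def_SGA1t
import Groth.Agent.Lib.FEt21.Galois
import Groth.Agent.Lib.EtTrace21.Basic
import Groth.Agent.Lib.EtShriek.Colim
import Groth.Prelude.Def_EtGm
import Mathlib.FieldTheory.Fixed
import Mathlib.FieldTheory.IsAlgClosed.AlgebraicClosure

/-!
# Principal covers of affine schemes
-/

set_option autoImplicit false
set_option backward.isDefEq.respectTransparency false
set_option backward.isDefEq.respectTransparency.types false
set_option linter.style.haveILetI false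

universe u v

open CategoryTheory CategoryTheory.Limits AlgebraicGeometry Opposite
open GrothLib.EtSite

noncomputable section

namespace GrothLib.Principal21

variable {A : Type u} [CommRing A] (P : FEt.Cat (Spec (CommRingCat.of A)))

theorem isAffine_left : IsAffine P.left := by
  let f : P.left ⟶ Spec (CommRingCat.of A) := P.hom
  haveI : IsFinite f := P.prop.1
  exact isAffine_of_isAffineHom f

/-- The structure map on global functions. -/
def str : CommRingCat.of A ⟶ Γ(P.left, ⊤) := (Scheme.ΓSpecIso (CommRingCat.of A)).inv ≫ P.hom.appTop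

theorem toSpecΓ_str : P.left.toSpecΓ ≫ Spec.map (str P) = P.hom := by
  rw [str, Spec.map_comp, ← Category.assoc]
  erw [← Scheme.toSpecΓ_naturality P.hom]
  rw [Category.assoc]
  erw [toSpecΓ_SpecMap_ΓSpecIso_inv]
  exact Category.comp_id _

variable {G : Type v} [Group G] (ρ : G →* Aut P)

/-- The action on global functions. -/
def act (g : G) : Γ(P.left, ⊤) ⟶ Γ(P.left, ⊤) := (ρ g).hom.left.appTop

theorem act_str (g : G) : str P ≫ act P ρ g = str P := by
  let e := congrArg (fun f : P.left ⟶ Spec (CommRingCat.of A) => f.appTop) (MorphismProperty.Over.w (ρ g).hom)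
  simp only [Scheme.Hom.comp_appTop] at e
  rw [str, act, Category.assoc]
  exact congrArg ((Scheme.ΓSpecIso (CommRingCat.of A)).inv ≫ ·) e

theorem act_str_apply (g : G) (a : A) : act P ρ g ((str P).hom a) = (str P).hom a :=
  congr($(act_str P ρ g) a)

theorem act_mul (g h : G) : act P ρ (g * h) = act P ρ g ≫ act P ρ h := by
  have e : (ρ (g * h)).hom.left = (ρ h).hom.left ≫ (ρ g).hom.left := by
    rw [map_mul]; rfl
  rw [act, e, Scheme.Hom.comp_appTop]
  rfl

theorem act_mul_apply (g h : G) (b : Γ(P.left, ⊤)) : act P ρ (g * h) b = act P ρ h (act P ρ g b) :=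
  congr($(act_mul P ρ g h) b)

variable {P ρ}

/-- Invariant functions come from the base. -/
theorem exists_str_eq (hP : SGA1t.IsPrincipal G P ρ) (b : Γ(P.left, ⊤)) (hb : ∀ g, act P ρ g b = b) :
    ∃ a : A, (str P).hom a = b := by
  let Y := Spec (CommRingCat.of A)
  let hom' : P.left ⟶ Y := P.hom
  let W : Y.Etale := MorphismProperty.Over.mk ⊤ hom' P.prop.2
  let p : W ⟶ EtCoh.top Y := (EtCore.topIsTerminal Y).from W
  have hp : p.left = hom' := (Category.comp_id p.left).symm.trans (MorphismProperty.Over.w p)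
  let m : G → (W ⟶ W) := fun g => MorphismProperty.Over.homMk (ρ g).hom.left (MorphismProperty.Over.w (ρ g).hom)
  let z : EtCoh.sect (EtCoh.Ga Y) W := (ULift.up b : ULift.{u + 1} Γ(P.left, ⊤))
  obtain ⟨w, hw⟩ : ∃ w, (EtCoh.Ga Y).obj.map p.op w = z := by
    refine (GrothLib.EtShriek.exists_glue (EtCoh.Ga Y) (EtCoh.top Y) (fun _ : PUnit.{1} => W) (fun _ => p)
      ?_ (fun _ => z) ?_).imp fun w hw => hw PUnit.unit
    · intro x
      obtain ⟨y, hy⟩ := hP.1 x
      exact ⟨PUnit.unit, y, (congrArg (fun f : W.left ⟶ Y => f.base y) hp).trans hy⟩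
    · intro i j Z q q' _
      refine sub_eq_zero.1 (GrothLib.EtTrace21.section_eq_zero_of_germsAC _ _ _ fun Ω _ _ ξ t => ?_)
      let t₁ := (Scheme.pointSmallEtale ξ).fiber.map q t
      let t₂ := (Scheme.pointSmallEtale ξ).fiber.map q' t
      obtain ⟨g, hg, -⟩ := hP.2 Ω ξ ⟨t₁.left, Over.w t₁⟩ ⟨t₂.left, Over.w t₂⟩
      have hσ : (Scheme.pointSmallEtale ξ).fiber.map (m g) t₁ = t₂ :=
        Over.OverMorphism.ext (congrArg Subtype.val hg)
      rw [map_sub, sub_eq_zero, germ_map, germ_map]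
      change germ ξ _ t₁ z = germ ξ _ t₂ z
      rw [← hσ, ← germ_map ξ _ (m g)]
      exact congrArg _ (ULift.ext _ _ (hb g).symm)
  refine ⟨(Scheme.ΓSpecIso (CommRingCat.of A)).hom (ULift.down (show ULift.{u + 1} Γ(Y, ⊤) from w)), ?_⟩
  have h1 : (p.left.appTop) (ULift.down (show ULift.{u + 1} Γ(Y, ⊤) from w)) = b := congrArg ULift.down hw
  refine Eq.trans ?_ h1
  change P.hom.appTop.hom ((Scheme.ΓSpecIso (CommRingCat.of A)).inv.hom _) = _
  rw [show (Scheme.ΓSpecIso (CommRingCat.of A)).inv.hom ((Scheme.ΓSpecIso (CommRingCat.of A)).hom.hom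
    (ULift.down (show ULift.{u + 1} Γ(Y, ⊤) from w))) = _ from
    congr($((Scheme.ΓSpecIso (CommRingCat.of A)).hom_inv_id) _)]
  exact congrArg (fun f : P.left ⟶ Y => f.appTop.hom (ULift.down (show ULift.{u + 1} Γ(Y, ⊤) from w))) hp.symm

/-- A point of a cover as a ring map. -/
def ev {Ω : Type u} [Field Ω] {ξ : Spec (CommRingCat.of Ω) ⟶ Spec (CommRingCat.of A)}
    (s : FEt.fiberObj ξ P) : Γ(P.left, ⊤) ⟶ CommRingCat.of Ω :=
  s.1.appTop ≫ (Scheme.ΓSpecIso (CommRingCat.of Ω)).hom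

theorem ev_str {Ω : Type u} [Field Ω] {ξ : Spec (CommRingCat.of Ω) ⟶ Spec (CommRingCat.of A)}
    (s : FEt.fiberObj ξ P) : str P ≫ ev s = Spec.preimage ξ := by
  apply Spec.map_injective
  rw [Spec.map_preimage, str, ev, Category.assoc, ← Category.assoc P.hom.appTop, ← Scheme.Hom.comp_appTop]
  simp only [Spec.map_comp]
  refine Eq.trans ?_ s.2
  obtain ⟨φ, hφ⟩ := Spec.map_surjective (s.1 ≫ P.hom)
  rw [← hφ, ← Spec.map_comp, ← Spec.map_comp]
  congr 1
  rw [Scheme.ΓSpecIso_naturality, Iso.inv_hom_id_assoc]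

theorem ev_injective {Ω : Type u} [Field Ω] {ξ : Spec (CommRingCat.of Ω) ⟶ Spec (CommRingCat.of A)}
    {s t : FEt.fiberObj ξ P} (h : ev s = ev t) : s = t := by
  haveI := isAffine_left P
  exact Subtype.ext (ext_of_isAffine ((cancel_mono _).1 h))

theorem ev_map {Ω : Type u} [Field Ω] {ξ : Spec (CommRingCat.of Ω) ⟶ Spec (CommRingCat.of A)}
    (s : FEt.fiberObj ξ P) (g : G) :
    ev ((FEt.fiber ξ).map (ρ g).hom s) = act P ρ g ≫ ev s := by
  change (s.1 ≫ (ρ g).hom.left).appTop ≫ _ = _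
  rw [Scheme.Hom.comp_appTop, Category.assoc]
  rfl

theorem nonempty_fiberObj (hP : SGA1t.IsPrincipal G P ρ) {Ω : Type u} [Field Ω] [IsAlgClosed Ω]
    (ξ : Spec (CommRingCat.of Ω) ⟶ Spec (CommRingCat.of A)) : Nonempty (FEt.fiberObj ξ P) := by
  let f : P.left ⟶ Spec (CommRingCat.of A) := P.hom
  haveI : IsFinite f := P.prop.1
  haveI : Etale f := P.prop.2
  obtain ⟨y, hy⟩ := hP.1 (ξ default)
  have h : 1 ≤ Nat.card (FEt.fiberObj ξ P) := by
    rw [GrothLib.FEt21.card_fiber, ← hy]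
    exact Scheme.Hom.one_le_finrank_map f y
  exact (Nat.card_pos_iff.1 h).1

/-- Dedekind: the conjugates of a point are independent. -/
theorem exists_sum_ev_ne_zero (hP : SGA1t.IsPrincipal G P ρ) [Fintype G] {Ω : Type u} [Field Ω] [IsAlgClosed Ω]
    {ξ : Spec (CommRingCat.of Ω) ⟶ Spec (CommRingCat.of A)} (s : FEt.fiberObj ξ P)
    (c : G → Ω) (hc : c ≠ 0) : ∃ b, ∑ g, c g * (ev s).hom (act P ρ g b) ≠ 0 := by
  by_contra hcon
  push Not at hcon
  let f : G → (Γ(P.left, ⊤) →* Ω) := fun g => ((act P ρ g ≫ ev s).hom : _ →+* Ω).toMonoidHom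
  have hf : Function.Injective f := fun g g' h => by
    have e : ev ((FEt.fiber ξ).map (ρ g).hom s) = ev ((FEt.fiber ξ).map (ρ g').hom s) := by
      rw [ev_map, ev_map]
      exact CommRingCat.hom_ext (RingHom.ext fun x => DFunLike.congr_fun h x)
    obtain ⟨g₀, -, hu⟩ := hP.2 Ω ξ s ((FEt.fiber ξ).map (ρ g).hom s)
    exact (hu g rfl).trans (hu g' (ev_injective e).symm).symm
  have hli := (linearIndependent_monoidHom Γ(P.left, ⊤) Ω).comp f hf
  refine hc (funext (Fintype.linearIndependent_iff.1 hli c (funext fun b => ?_)))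
  simpa [Finset.sum_apply, f] using hcon b

/-- The trace of a principal cover is surjective. -/
theorem exists_sum_act_eq_one (hP : SGA1t.IsPrincipal G P ρ) [Fintype G] :
    ∃ θ, ∑ g, act P ρ g θ = 1 := by
  classical
  have hinv : ∀ b, ∃ a, (str P).hom a = ∑ g, act P ρ g b := fun b => exists_str_eq hP _ fun h => by
    rw [map_sum]
    exact Fintype.sum_equiv (Equiv.mulRight h) _ _ fun g => (act_mul_apply P ρ g h b).symm
  let I : Ideal A :=
    { carrier := {a | ∃ b, ∑ g, act P ρ g b = (str P).hom a}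
      add_mem' := fun {a a'} ⟨b, hb⟩ ⟨b', hb'⟩ => ⟨b + b', by
        simp only [map_add, Finset.sum_add_distrib, hb, hb']⟩
      zero_mem' := ⟨0, by simp⟩
      smul_mem' := fun r a ⟨b, hb⟩ => ⟨(str P).hom r * b, by
        simp only [smul_eq_mul, map_mul, ← hb, Finset.mul_sum]
        exact Finset.sum_congr rfl fun g _ => congrArg (· * _) (act_str_apply P ρ g r)⟩ }
  suffices hI : I = ⊤ by
    obtain ⟨θ, hθ⟩ := (Ideal.eq_top_iff_one I).1 hI
    exact ⟨θ, hθ.trans (map_one _)⟩
  by_contra hI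
  obtain ⟨𝔪, h𝔪, hle⟩ := Ideal.exists_le_maximal I hI
  letI : Field (A ⧸ 𝔪) := Ideal.Quotient.field 𝔪
  let Ω := AlgebraicClosure (A ⧸ 𝔪)
  let χ : CommRingCat.of A ⟶ CommRingCat.of Ω := CommRingCat.ofHom ((algebraMap (A ⧸ 𝔪) Ω).comp (Ideal.Quotient.mk 𝔪))
  obtain ⟨s⟩ := nonempty_fiberObj hP (Spec.map χ)
  obtain ⟨b, hb⟩ := exists_sum_ev_ne_zero hP s (fun _ => 1) (fun h => one_ne_zero (congrFun h 1))
  obtain ⟨a, ha⟩ := hinv b
  refine hb ?_
  simp only [one_mul]
  rw [← map_sum, ← ha]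
  change (str P ≫ ev s).hom a = 0
  rw [ev_str, Spec.preimage_map]
  change algebraMap (A ⧸ 𝔪) Ω (Ideal.Quotient.mk 𝔪 a) = 0
  rw [Ideal.Quotient.eq_zero_iff_mem.2 (hle ⟨b, ha.symm⟩), map_zero]

/-- An equivariant map to a finite étale algebra on whose points the group acts simply transitively is an
isomorphism. -/
theorem exists_iso (hP : SGA1t.IsPrincipal G P ρ) (C : Type u) [CommRing C] [Algebra A C] [Module.Finite A C]
    [Algebra.Etale A C] (χ : C →+* Γ(P.left, ⊤)) (hχ : ∀ a, χ (algebraMap A C a) = (str P).hom a)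
    (τ : G → (C →+* C)) (hτ : ∀ g c, χ (τ g c) = act P ρ g (χ c))
    (hpts : ∀ (Ω : Type u) [Field Ω] [IsAlgClosed Ω] (v v' : C →+* Ω),
      v.comp (algebraMap A C) = v'.comp (algebraMap A C) → ∃ g, v.comp (τ g) = v')
    (hfree : ∀ (Ω : Type u) [Field Ω] [IsAlgClosed Ω] (v : C →+* Ω) (g g' : G),
      v.comp (τ g) = v.comp (τ g') → g = g') :
    ∃ e : P.left ≅ Spec (CommRingCat.of C),
      e.hom ≫ Spec.map (CommRingCat.ofHom (algebraMap A C)) = P.hom ∧
      ∀ g, (ρ g).hom.left ≫ e.hom = e.hom ≫ Spec.map (CommRingCat.ofHom (τ g)) := by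
  let π : Spec (CommRingCat.of C) ⟶ Spec (CommRingCat.of A) := Spec.map (CommRingCat.ofHom (algebraMap A C))
  have hf : IsFinite π := (IsFinite.SpecMap_iff _).2 (RingHom.finite_algebraMap.2 inferInstance)
  have he : Etale π := by
    rw [HasRingHomProperty.Spec_iff (P := @Etale.{u})]
    exact RingHom.etale_algebraMap.2 inferInstance
  let K : FEt.Cat (Spec (CommRingCat.of A)) := MorphismProperty.Over.mk ⊤ π ⟨hf, he⟩
  let l : P.left ⟶ Spec (CommRingCat.of C) := P.left.toSpecΓ ≫ Spec.map (CommRingCat.ofHom χ)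
  have hl : l ≫ π = P.hom := by
    refine Eq.trans ?_ (toSpecΓ_str P)
    rw [Category.assoc, ← Spec.map_comp, ← CommRingCat.ofHom_comp]
    congr 2
    exact CommRingCat.hom_ext (RingHom.ext hχ)
  let φ : P ⟶ K := MorphismProperty.Over.homMk l hl
  have heq : ∀ g, (ρ g).hom.left ≫ l = l ≫ Spec.map (CommRingCat.ofHom (τ g)) := fun g => by
    rw [← Category.assoc]
    erw [Scheme.toSpecΓ_naturality (ρ g).hom.left]
    rw [Category.assoc, Category.assoc, ← Spec.map_comp, ← Spec.map_comp]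
    congr 2
    exact CommRingCat.hom_ext (RingHom.ext fun c => (hτ g c).symm)
  haveI : IsIso φ := GrothLib.FEt21.isIso_of_bijective φ fun Ω _ _ ξ => by
    have key : ∀ (s : FEt.fiberObj ξ P) (g : G),
        Spec.preimage ((FEt.fiber ξ).map φ ((FEt.fiber ξ).map (ρ g).hom s)).1 =
          CommRingCat.ofHom (τ g) ≫ Spec.preimage (s.1 ≫ l) := fun s g => by
      apply Spec.map_injective
      rw [Spec.map_preimage, Spec.map_comp, Spec.map_preimage]
      change (s.1 ≫ (ρ g).hom.left) ≫ l = _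
      rw [Category.assoc, heq, Category.assoc, Category.assoc]
      rfl
    obtain ⟨s₀⟩ := nonempty_fiberObj hP ξ
    constructor
    · intro s s' h
      obtain ⟨g, rfl, -⟩ := hP.2 Ω ξ s₀ s
      obtain ⟨g', rfl, -⟩ := hP.2 Ω ξ s₀ s'
      have e := (key s₀ g).symm.trans ((congrArg (fun t : FEt.fiberObj ξ K => Spec.preimage t.1) h).trans (key s₀ g'))
      rw [hfree Ω (Spec.preimage (s₀.1 ≫ l)).hom g g' (congrArg CommRingCat.Hom.hom e)]
    · intro t
      obtain ⟨g, hg⟩ := hpts Ω (Spec.preimage (s₀.1 ≫ l)).hom (Spec.preimage t.1).hom (by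
        have e : CommRingCat.ofHom (algebraMap A C) ≫ Spec.preimage (s₀.1 ≫ l) =
            CommRingCat.ofHom (algebraMap A C) ≫ Spec.preimage t.1 := by
          apply Spec.map_injective
          rw [Spec.map_comp, Spec.map_comp, Spec.map_preimage, Spec.map_preimage, Category.assoc]
          exact ((congrArg (s₀.1 ≫ ·) hl).trans s₀.2).trans t.2.symm
        exact congrArg CommRingCat.Hom.hom e)
      refine ⟨(FEt.fiber ξ).map (ρ g).hom s₀, Subtype.ext ?_⟩
      have e := congrArg Spec.map ((key s₀ g).trans (CommRingCat.hom_ext hg))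
      rwa [Spec.map_preimage, Spec.map_preimage] at e
  let F := MorphismProperty.Over.forget FEt.prop.{u} ⊤ (Spec (CommRingCat.of A)) ⋙ Over.forget _
  exact ⟨F.mapIso (asIso φ), hl, heq⟩

end GrothLib.Principal21
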